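import Groth.Agent.Lib.Frob.RelSmooth
import Groth.Agent.Lib.RelGCIReg.Scheme
import Groth.Prelude.Def_Frob
import Mathlib.AlgebraicGeometry.Morphisms.Smooth
import Mathlib.AlgebraicGeometry.Morphisms.Flat

/-!
# The relative Frobenius of a smooth morphism is syntomic
-/

set_option autoImplicit false

namespace GrothLib.FrobSynt13

universe u

open TensorProduct MvPolynomial

variable (p : ℕ) [hp : Fact p.Prime] {A : Type u} [CommRing A] [CharP A p]

local notation "T" => FrobAlg.Twist p A

open GrothLib.Frob in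
/-- The monomials `x^e`, `e < p`, form a basis of `B` over its Frobenius twist. -/
theorem bijective_linearCombination (r : ℕ) (B : Type u) [CommRing B] [Algebra A B] [CharP B p]
    [Algebra (MvPolynomial (Fin r) A) B] [IsScalarTower A (MvPolynomial (Fin r) A) B]
    [Algebra.Etale (MvPolynomial (Fin r) A) B] :
    letI := (FrobAlg.relFrob p A B).toAlgebra
    Function.Bijective ⇑(Fintype.linearCombination (FrobAlg.BaseChange p A B)
      (fun e : Fin r → Fin p => algebraMap (MvPolynomial (Fin r) A) B (monomial (expVec p e) 1))) := by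
  classical
  letI := (FrobAlg.relFrob p A B).toAlgebra
  let P := MvPolynomial (Fin r) A
  let L : B ⊗[P] ((Fin r → Fin p) → FrobAlg.BaseChange p A P) ≃ₗ[P] B ⊗[P] FrobAlg.Twist p P :=
    (LinearEquiv.ofBijective (phiPolyLin p (A := A) r)
      ((FrobAlg.toTwist p P).bijective.comp (bijective_phiPoly p r))).lTensor B
  let Q := TensorProduct.piRight P P B (fun _ : Fin r → Fin p => FrobAlg.BaseChange p A P)
  let cn := TensorProduct.AlgebraTensorModule.cancelBaseChange A P P B T
  have hcn : ∀ (b : B) (y : FrobAlg.BaseChange p A P), FrobAlg.relFrob p A B (cn (b ⊗ₜ y)) =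
      b ^ p * algebraMap P B (FrobAlg.relFrob p A P y) := fun b y => by
    induction y using TensorProduct.induction_on with
    | zero => simp
    | add x y hx hy => simp only [tmul_add, map_add, hx, hy, mul_add]
    | tmul f t =>
      rw [TensorProduct.AlgebraTensorModule.cancelBaseChange_tmul, relFrob_tmul, relFrob_tmul, map_mul,
        map_pow, ← IsScalarTower.algebraMap_apply A P B, Algebra.smul_def, mul_pow]
      ring
  let v : (Fin r → Fin p) → B := fun e => algebraMap P B (monomial (expVec p e) 1)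
  have key : ∀ x, FrobAlg.relFrob p P B (L x) = ∑ e, FrobAlg.relFrob p A B (cn (Q x e)) * v e := fun x => by
    induction x using TensorProduct.induction_on with
    | zero => simp
    | add x y hx hy => simp only [map_add, Pi.add_apply, hx, hy, add_mul, Finset.sum_add_distrib]
    | tmul b c =>
      change FrobAlg.relFrob p P B (b ⊗ₜ FrobAlg.toTwist p P (phiPoly p r c)) = _
      rw [relFrob_tmul, RingEquiv.symm_apply_apply, phiPoly, map_sum, Finset.mul_sum]
      refine Finset.sum_congr rfl fun e _ => ?_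
      rw [show Q (b ⊗ₜ c) e = b ⊗ₜ c e by simp [Q], hcn, map_mul, mul_assoc]
  have hLv : ⇑(Fintype.linearCombination (FrobAlg.BaseChange p A B) v) =
      (fun x => FrobAlg.relFrob p P B (L x)) ∘ Q.symm ∘ fun c e => cn.symm (c e) := funext fun c => by
    rw [Fintype.linearCombination_apply, Function.comp_apply, Function.comp_apply, key]
    refine Finset.sum_congr rfl fun e _ => ?_
    rw [LinearEquiv.apply_symm_apply, LinearEquiv.apply_symm_apply]
    rfl
  show Function.Bijective ⇑(Fintype.linearCombination (FrobAlg.BaseChange p A B) v)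
  rw [hLv]
  exact (((bijective_relFrob p P B).comp L.bijective).comp Q.symm.bijective).comp
    (Function.Bijective.piMap fun _ => cn.symm.bijective)

open GrothLib.Frob in
theorem isSyntomic_relFrob (r : ℕ) (B : Type u) [CommRing B] [Algebra A B] [CharP B p]
    [Algebra (MvPolynomial (Fin r) A) B] [IsScalarTower A (MvPolynomial (Fin r) A) B]
    [Algebra.Etale (MvPolynomial (Fin r) A) B] :
    GrothLib.RelGCIReg.SyntHom (FrobAlg.relFrob p A B) := by
  classical
  letI := (FrobAlg.relFrob p A B).toAlgebra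
  let R := FrobAlg.BaseChange p A B
  let P := MvPolynomial (Fin r) A
  let y : Fin r → B := fun i => algebraMap P B (X i)
  let F : Fin r → MvPolynomial (Fin r) R := fun i => X i ^ p - C (y i ⊗ₜ[A] (1 : T))
  let Q := Synt.RelGCIRing R r r F
  have hy : ∀ i, y i ^ p = algebraMap R B (y i ⊗ₜ[A] (1 : T)) := fun i => by
    change _ = FrobAlg.relFrob p A B (y i ⊗ₜ 1)
    rw [relFrob_tmul, map_one, map_one, mul_one]
  let φ : Q →ₐ[R] B := Ideal.Quotient.liftₐ _ (aeval y) (fun a ha => by
    have hle : Ideal.span (Set.range F) ≤ RingHom.ker (aeval (R := R) y) := by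
      rw [Ideal.span_le]
      rintro _ ⟨i, rfl⟩
      simp [F, hy]
    exact hle ha)
  let w : (Fin r → Fin p) → Q := fun e => Ideal.Quotient.mk _ (monomial (expVec p e) 1)
  have hwv : ∀ e, φ (w e) = algebraMap P B (monomial (expVec p e) 1) := fun e => by
    change aeval y (monomial (expVec p e) (1 : R)) = _
    rw [aeval_monomial, map_one, one_mul, monomial_eq, map_mul, map_one, map_one, one_mul, Finsupp.prod,
      Finsupp.prod, map_prod]
    simp [y, P]
  have hspan : ∀ z : Q, z ∈ Submodule.span R (Set.range w) := by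
    intro z
    obtain ⟨f, rfl⟩ := Ideal.Quotient.mk_surjective z
    induction f using MvPolynomial.induction_on' with
    | add f g hf hg => rw [map_add]; exact add_mem hf hg
    | monomial m a =>
      let e : Fin r → Fin p := fun i => ⟨m i % p, Nat.mod_lt _ hp.out.pos⟩
      have hrel : ∀ i, (Ideal.Quotient.mk (Ideal.span (Set.range F)) (X i)) ^ p =
          algebraMap R Q (y i ⊗ₜ[A] (1 : T)) := fun i => by
        rw [← map_pow]
        exact Ideal.Quotient.mk_eq_mk_iff_sub_mem _ _ |>.2 (Ideal.subset_span ⟨i, rfl⟩)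
      have key : (Ideal.Quotient.mk (Ideal.span (Set.range F)) (monomial m a) : Q) =
          (a * ∏ i, (y i ⊗ₜ[A] (1 : T)) ^ (m i / p)) • w e := by
        refine Eq.trans ?_ (show algebraMap R Q (a * ∏ i, (y i ⊗ₜ[A] (1 : T)) ^ (m i / p)) *
          Ideal.Quotient.mk (Ideal.span (Set.range F)) (monomial (expVec p e) 1) =
          (a * ∏ i, (y i ⊗ₜ[A] (1 : T)) ^ (m i / p)) • w e from ?_)
        swap
        · change Ideal.Quotient.mk (Ideal.span (Set.range F)) (C _) * _ = _
          rw [← map_mul, ← smul_eq_C_mul]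
          rfl
        rw [map_mul, map_prod, monomial_eq, monomial_eq, C_1, one_mul, map_mul,
          Finsupp.prod_fintype _ _ (fun i => pow_zero _), Finsupp.prod_fintype _ _ (fun i => pow_zero _),
          map_prod, map_prod, mul_assoc, ← Finset.prod_mul_distrib]
        refine congrArg₂ (· * ·) rfl (Finset.prod_congr rfl fun i _ => ?_)
        rw [map_pow, map_pow, map_pow, ← hrel, expVec_apply, ← pow_mul, ← pow_add]
        exact congrArg _ (Nat.div_add_mod (m i) p).symm
      rw [key]
      exact Submodule.smul_mem _ _ (Submodule.subset_span ⟨e, rfl⟩)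
  have hb := bijective_linearCombination p r B (A := A)
  have hcomp : ∀ c : (Fin r → Fin p) → R, φ (Fintype.linearCombination R w c) =
      Fintype.linearCombination R (fun e => algebraMap P B (monomial (expVec p e) 1)) c := fun c => by
    simp only [Fintype.linearCombination_apply, map_sum, map_smul, hwv]
  have hsurj : Function.Surjective (Fintype.linearCombination R w) := fun z => by
    have := hspan z
    rw [← Fintype.range_linearCombination] at this
    exact this
  have hbij : Function.Bijective φ := by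
    constructor
    · intro a b h
      obtain ⟨c, rfl⟩ := hsurj a
      obtain ⟨c', rfl⟩ := hsurj b
      rw [hcomp, hcomp] at h
      rw [hb.1 h]
    · intro b
      obtain ⟨c, rfl⟩ := hb.2 b
      exact ⟨_, hcomp c⟩
  let e := AlgEquiv.ofBijective φ hbij
  haveI : Module.Finite R Q :=
    Module.Finite.of_surjective (Fintype.linearCombination R w) hsurj
  exact GrothLib.RelGCIReg.isSyntomic_of_algEquiv e
    (GrothLib.RelGCIReg.isSyntomic F (GrothLib.RelGCIReg.isRelGCI_of_finite F))

open CategoryTheory CategoryTheory.Limits AlgebraicGeometry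

omit [CharP A p] in
theorem isSyntomicMor_relFrob {S X : Scheme.{u}} [FrobSch.IsCharP S p] (f : X ⟶ S) (d : ℕ)
    [SmoothOfRelativeDimension d f] : Synt.IsSyntomicMor (FrobSch.relFrob f p) := by
  intro x
  haveI hXp : FrobSch.IsCharP X p := FrobSch.IsCharP.of_hom f p
  obtain ⟨V, hV, U, hU, hx, e, he⟩ :=
    SmoothOfRelativeDimension.exists_isStandardSmoothOfRelativeDimension (n := d) (f := f) x
  haveI : Nonempty V := ⟨⟨f x, e hx⟩⟩
  haveI : Nonempty U := ⟨⟨x, hx⟩⟩
  haveI : CharP Γ(S, V) p :=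
    (CharP.charP_iff_prime_eq_zero hp.out).2 (FrobSch.natCast_eq_zero_app S p V)
  haveI : CharP Γ(X, U) p :=
    (CharP.charP_iff_prime_eq_zero hp.out).2 (FrobSch.natCast_eq_zero_app X p U)
  letI : Algebra Γ(S, V) Γ(X, U) := (f.appLE V U e).hom.toAlgebra
  haveI : Algebra.IsStandardSmoothOfRelativeDimension d Γ(S, V) Γ(X, U) := he
  obtain ⟨gh, hgh⟩ :=
    Algebra.IsStandardSmoothOfRelativeDimension.exists_etale_mvPolynomial d Γ(S, V) Γ(X, U)
  letI : Algebra (MvPolynomial (Fin d) Γ(S, V)) Γ(X, U) := gh.toRingHom.toAlgebra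
  haveI : IsScalarTower Γ(S, V) (MvPolynomial (Fin d) Γ(S, V)) Γ(X, U) :=
    IsScalarTower.of_algebraMap_eq fun a => (gh.commutes a).symm
  haveI : Algebra.Etale (MvPolynomial (Fin d) Γ(S, V)) Γ(X, U) := hgh
  have hsyn := isSyntomic_relFrob p d Γ(X, U) (A := Γ(S, V))
  -- the affine chart of the twist
  have H : IsPullback (pullback.fst f (FrobSch.frob S p)) (pullback.snd f (FrobSch.frob S p)) f
      (FrobSch.frob S p) := IsPullback.of_hasPullback _ _
  have hVV : V ≤ FrobSch.frob S p ⁻¹ᵁ V := le_rfl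
  let W : (FrobSch.frobTwist f p).Opens :=
    pullback.fst f (FrobSch.frob S p) ⁻¹ᵁ U ⊓ pullback.snd f (FrobSch.frob S p) ⁻¹ᵁ V
  have hW : IsAffineOpen W := by
    have : IsAffine _ := hV
    have : IsAffine _ := hU
    exact .of_isIso (Scheme.Hom.isPullback_resLE H hVV e (UY := W) rfl).isoPullback.hom
  have hpo := (isIso_pushoutSection_iff H hVV e (UY := W) rfl).1
    (isIso_pushoutSection_of_isAffineOpen H hVV e rfl hV hV hU)
  let tw : CommRingCat.of Γ(S, V) ≅ CommRingCat.of (FrobAlg.Twist p Γ(S, V)) :=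
    (FrobAlg.toTwist p Γ(S, V)).toCommRingCatIso
  have hfr : ∀ a : Γ(S, V), (FrobSch.frob S p).appLE V V hVV a = a ^ p := fun a => by
    rw [Scheme.Hom.appLE]
    change S.presheaf.map (𝟙 (Opposite.op V)) (a ^ p) = _
    rw [S.presheaf.map_id]
    rfl
  have hfrX : ∀ (hUU : U ≤ FrobSch.frob X p ⁻¹ᵁ U) (a : Γ(X, U)),
      (FrobSch.frob X p).appLE U U hUU a = a ^ p := fun hUU a => by
    rw [Scheme.Hom.appLE]
    change X.presheaf.map (𝟙 (Opposite.op U)) (a ^ p) = _
    rw [X.presheaf.map_id]
    rfl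
  let inl : CommRingCat.of Γ(X, U) ⟶ CommRingCat.of (FrobAlg.BaseChange p Γ(S, V) Γ(X, U)) :=
    CommRingCat.ofHom (Algebra.TensorProduct.includeLeftRingHom :
      Γ(X, U) →+* FrobAlg.BaseChange p Γ(S, V) Γ(X, U))
  let inr : CommRingCat.of Γ(S, V) ⟶ CommRingCat.of (FrobAlg.BaseChange p Γ(S, V) Γ(X, U)) :=
    tw.hom ≫ CommRingCat.ofHom (Algebra.TensorProduct.includeRight :
      FrobAlg.Twist p Γ(S, V) →ₐ[Γ(S, V)] FrobAlg.BaseChange p Γ(S, V) Γ(X, U)).toRingHom
  have hpo₂ : IsPushout (f.appLE V U e) ((FrobSch.frob S p).appLE V V hVV) inl inr := by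
    refine (CommRingCat.isPushout_tensorProduct Γ(S, V) Γ(X, U) (FrobAlg.Twist p Γ(S, V))).of_iso
      (Iso.refl _) (Iso.refl _) tw.symm (Iso.refl _) ?_ ?_ ?_ ?_
    · rfl
    · ext a
      exact (hfr a).symm
    · rfl
    · ext a
      rfl
  let E := hpo₂.isoIsPushout _ _ hpo
  have hUW : U ≤ FrobSch.relFrob f p ⁻¹ᵁ W := fun z hz => by
    refine ⟨?_, ?_⟩
    · change (FrobSch.relFrob f p ≫ pullback.fst f (FrobSch.frob S p)) z ∈ U
      rw [FrobSch.relFrob_fst, FrobSch.frob_apply]
      exact hz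
    · change (FrobSch.relFrob f p ≫ pullback.snd f (FrobSch.frob S p)) z ∈ V
      rw [FrobSch.relFrob_snd]
      exact e hz
  have key : E.hom ≫ (FrobSch.relFrob f p).appLE W U hUW =
      CommRingCat.ofHom (FrobAlg.relFrob p Γ(S, V) Γ(X, U)) := by
    apply hpo₂.hom_ext
    · rw [IsPushout.inl_isoIsPushout_hom_assoc, Scheme.Hom.appLE_comp_appLE]
      have h : ∀ (φ : X ⟶ X) (h' : U ≤ φ ⁻¹ᵁ U), φ = FrobSch.frob X p → ∀ a : Γ(X, U),
          φ.appLE U U h' a = a ^ p := by
        rintro φ h' rfl a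
        exact hfrX h' a
      ext a
      change _ = FrobAlg.relFrob p Γ(S, V) Γ(X, U) (a ⊗ₜ 1)
      rw [GrothLib.Frob.relFrob_tmul, map_one, map_one, mul_one]
      exact h _ _ (FrobSch.relFrob_fst f p) a
    · rw [IsPushout.inr_isoIsPushout_hom_assoc, Scheme.Hom.appLE_comp_appLE]
      have h : ∀ (φ : X ⟶ S) (h' : U ≤ φ ⁻¹ᵁ V), φ = f → φ.appLE V U h' = f.appLE V U e := by
        rintro φ h' rfl
        rfl
      rw [h _ _ (FrobSch.relFrob_snd f p)]
      ext a
      change _ = FrobAlg.relFrob p Γ(S, V) Γ(X, U) (1 ⊗ₜ FrobAlg.toTwist p Γ(S, V) a)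
      rw [GrothLib.Frob.relFrob_tmul, one_pow, one_mul, RingEquiv.symm_apply_apply]
      rfl
  refine ⟨⟨U, hU⟩, ⟨W, hW⟩, hUW, hx, ?_⟩
  have hfin : (FrobSch.relFrob f p).appLE W U hUW =
      E.inv ≫ CommRingCat.ofHom (FrobAlg.relFrob p Γ(S, V) Γ(X, U)) := by
    rw [← key, Iso.inv_hom_id_assoc]
  show GrothLib.RelGCIReg.SyntHom ((FrobSch.relFrob f p).appLE W U hUW).hom
  rw [hfin, CommRingCat.hom_comp]
  exact GrothLib.RelGCIReg.syntHom_comp _ _
    (GrothLib.RelGCIReg.syntHom_of_bijective _ (ConcreteCategory.bijective_of_isIso E.inv)) hsyn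

end GrothLib.FrobSynt13
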